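import Groth.Agent.W4c2invhilbsl2.K871.Gen
import Mathlib.Data.ZMod.Basic

/-!
Explicit weights of monomials for `wt3` and `wt5`.
-/

set_option autoImplicit false
open MvPolynomial W4c2invhilbsl2

namespace K871.Wt

theorem weight3 (p q m : ℕ) (d : Fin 3 →₀ ℕ) :
    Finsupp.weight (wt3 p q m) d =
      ((d 0 : ℤ) - p * d 1 + q * d 2, ((((d 2 : ℤ) - d 1 : ℤ)) : ZMod m)) := by
  rw [Finsupp.weight_apply, Finsupp.sum_fintype _ _ (by simp)]
  simp only [Fin.sum_univ_three, wt3]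
  ext
  · simp
    ring
  · simp
    ring

theorem weight5 (p q m : ℕ) (d : Fin 5 →₀ ℕ) :
    Finsupp.weight (wt5 p q m) d =
      ((d 0 : ℤ) - p * (d 1 + d 2) + q * (d 3 + d 4),
        ((((d 3 + d 4 : ℤ) - (d 1 + d 2) : ℤ)) : ZMod m)) := by
  rw [Finsupp.weight_apply, Finsupp.sum_fintype _ _ (by simp)]
  simp only [Fin.sum_univ_five, wt5]
  ext
  · simp
    ring
  · simp
    ring

theorem weight3_eq_iff (p q m : ℕ) (d : Fin 3 →₀ ℕ) (n c : ℤ) :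
    Finsupp.weight (wt3 p q m) d = (n, (c : ZMod m)) ↔
      (d 0 : ℤ) - p * d 1 + q * d 2 = n ∧ (m : ℤ) ∣ c - ((d 2 : ℤ) - d 1) := by
  rw [weight3, Prod.mk.injEq, ZMod.intCast_eq_intCast_iff_dvd_sub]

theorem weight5_eq_iff (p q m : ℕ) (d : Fin 5 →₀ ℕ) (n c : ℤ) :
    Finsupp.weight (wt5 p q m) d = (n, (c : ZMod m)) ↔
      (d 0 : ℤ) - p * (d 1 + d 2) + q * (d 3 + d 4) = n ∧
        (m : ℤ) ∣ c - (((d 3 : ℤ) + d 4) - (d 1 + d 2)) := by
  rw [weight5, Prod.mk.injEq, ZMod.intCast_eq_intCast_iff_dvd_sub]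

theorem weight3_same_iff (p q m : ℕ) (d e : Fin 3 →₀ ℕ) :
    Finsupp.weight (wt3 p q m) d = Finsupp.weight (wt3 p q m) e ↔
      (d 0 : ℤ) - p * d 1 + q * d 2 = (e 0 : ℤ) - p * e 1 + q * e 2 ∧
        (m : ℤ) ∣ ((e 2 : ℤ) - e 1) - ((d 2 : ℤ) - d 1) := by
  rw [weight3 p q m e, weight3_eq_iff]

theorem weight5_same_iff (p q m : ℕ) (d e : Fin 5 →₀ ℕ) :
    Finsupp.weight (wt5 p q m) d = Finsupp.weight (wt5 p q m) e ↔
      (d 0 : ℤ) - p * (d 1 + d 2) + q * (d 3 + d 4) =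
        (e 0 : ℤ) - p * (e 1 + e 2) + q * (e 3 + e 4) ∧
        (m : ℤ) ∣ (((e 3 : ℤ) + e 4) - (e 1 + e 2)) - (((d 3 : ℤ) + d 4) - (d 1 + d 2)) := by
  rw [weight5 p q m e, weight5_eq_iff]

/-- exponent vector in three variables -/
noncomputable def ex3 (a b c : ℕ) : Fin 3 →₀ ℕ := Finsupp.equivFunOnFinite.symm ![a, b, c]

@[local simp] theorem ex3_zero (a b c : ℕ) : ex3 a b c 0 = a := rfl
@[local simp] theorem ex3_one (a b c : ℕ) : ex3 a b c 1 = b := rfl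
@[local simp] theorem ex3_two (a b c : ℕ) : ex3 a b c 2 = c := rfl

/-- exponent vector in five variables -/
noncomputable def ex5 (a b c d e : ℕ) : Fin 5 →₀ ℕ :=
  Finsupp.equivFunOnFinite.symm ![a, b, c, d, e]

@[local simp] theorem ex5_zero (a b c d e : ℕ) : ex5 a b c d e 0 = a := rfl
@[local simp] theorem ex5_one (a b c d e : ℕ) : ex5 a b c d e 1 = b := rfl
@[local simp] theorem ex5_two (a b c d e : ℕ) : ex5 a b c d e 2 = c := rfl
@[local simp] theorem ex5_three (a b c d e : ℕ) : ex5 a b c d e 3 = d := rfl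
@[local simp] theorem ex5_four (a b c d e : ℕ) : ex5 a b c d e 4 = e := rfl

theorem eq_ex3 (d : Fin 3 →₀ ℕ) : d = ex3 (d 0) (d 1) (d 2) := by
  ext i
  fin_cases i <;> rfl

theorem eq_ex5 (d : Fin 5 →₀ ℕ) : d = ex5 (d 0) (d 1) (d 2) (d 3) (d 4) := by
  ext i
  fin_cases i <;> rfl

theorem ex3_le_iff (a b c : ℕ) (d : Fin 3 →₀ ℕ) :
    ex3 a b c ≤ d ↔ a ≤ d 0 ∧ b ≤ d 1 ∧ c ≤ d 2 := by
  rw [Finsupp.le_def]
  constructor
  · intro h
    exact ⟨h 0, h 1, h 2⟩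
  · rintro ⟨h0, h1, h2⟩ i
    fin_cases i
    · exact h0
    · exact h1
    · exact h2

theorem ex5_le_iff (a b c x y : ℕ) (d : Fin 5 →₀ ℕ) :
    ex5 a b c x y ≤ d ↔ a ≤ d 0 ∧ b ≤ d 1 ∧ c ≤ d 2 ∧ x ≤ d 3 ∧ y ≤ d 4 := by
  rw [Finsupp.le_def]
  constructor
  · intro h
    exact ⟨h 0, h 1, h 2, h 3, h 4⟩
  · rintro ⟨h0, h1, h2, h3, h4⟩ i
    fin_cases i
    · exact h0
    · exact h1
    · exact h2
    · exact h3
    · exact h4

theorem monomial_ex3 (k : Type*) [CommRing k] (a b c : ℕ) :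
    (monomial (ex3 a b c) (1 : k)) = X 0 ^ a * X 1 ^ b * X 2 ^ c := by
  rw [monomial_eq, Finsupp.prod_fintype _ _ (by simp), Fin.prod_univ_three]
  simp

theorem monomial_ex5 (k : Type*) [CommRing k] (a b c x y : ℕ) :
    (monomial (ex5 a b c x y) (1 : k)) = X 0 ^ a * X 1 ^ b * X 2 ^ c * X 3 ^ x * X 4 ^ y := by
  rw [monomial_eq, Finsupp.prod_fintype _ _ (by simp), Fin.prod_univ_five]
  simp

theorem weight_ex3 (p q m a b c : ℕ) :
    Finsupp.weight (wt3 p q m) (ex3 a b c) =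
      ((a : ℤ) - p * b + q * c, ((((c : ℤ) - b : ℤ)) : ZMod m)) := by
  rw [weight3]
  rfl

theorem weight_ex5 (p q m a b c x y : ℕ) :
    Finsupp.weight (wt5 p q m) (ex5 a b c x y) =
      ((a : ℤ) - p * (b + c) + q * (x + y), ((((x + y : ℤ) - (b + c) : ℤ)) : ZMod m)) := by
  rw [weight5]
  rfl

end K871.Wt
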