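import Mathlib.Tactic
import Mathlib.RingTheory.Coprime.Lemmas

/-!
Relations between monomials of the same weight in a commutative ring.
-/

set_option autoImplicit false

namespace K871.Mono

/-- If `x^(q-p) = y z`, monomials with the same `(n, c)` are equal; the case `d₁ ≤ e₁`. -/
theorem mono_eq_aux {R : Type*} [CommRing R] (x y z : R) (p q : ℕ) (hpq : p < q)
    (h : x ^ (q - p) = y * z) (d0 d1 d2 e0 e1 e2 : ℕ)
    (hn : (e0 : ℤ) - p * e1 + q * e2 = (d0 : ℤ) - p * d1 + q * d2)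
    (hc : (d1 : ℤ) - d2 = (e1 : ℤ) - e2) (hle : d1 ≤ e1) :
    x ^ d0 * y ^ d1 * z ^ d2 = x ^ e0 * y ^ e1 * z ^ e2 := by
  obtain ⟨s, rfl⟩ := Nat.exists_eq_add_of_le hle
  have h2 : e2 = d2 + s := by
    push_cast at hc
    omega
  subst h2
  have h0 : d0 = e0 + (q - p) * s := by
    have h3 : (d0 : ℤ) = e0 + (((q - p : ℕ)) : ℤ) * s := by
      rw [Nat.cast_sub hpq.le]
      push_cast at hn
      linear_combination -hn
    exact_mod_cast h3
  rw [h0, pow_add, pow_mul, h, mul_pow, pow_add, pow_add]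
  ring

theorem mono_eq {R : Type*} [CommRing R] (x y z : R) (p q : ℕ) (hpq : p < q)
    (h : x ^ (q - p) = y * z) (d0 d1 d2 e0 e1 e2 : ℕ)
    (hn : (e0 : ℤ) - p * e1 + q * e2 = (d0 : ℤ) - p * d1 + q * d2)
    (hc : (d1 : ℤ) - d2 = (e1 : ℤ) - e2) :
    x ^ d0 * y ^ d1 * z ^ d2 = x ^ e0 * y ^ e1 * z ^ e2 := by
  rcases le_total d1 e1 with hle | hle
  · exact mono_eq_aux x y z p q hpq h d0 d1 d2 e0 e1 e2 hn hc hle
  · exact (mono_eq_aux x y z p q hpq h e0 e1 e2 d0 d1 d2 hn.symm hc.symm hle).symm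

/-- If `x^(q-p) = y z` and `c - c' = m j`, then `X^d = (x^(mp) y^m)^j X^e`. -/
theorem mono_eq_pow {R : Type*} [CommRing R] (x y z : R) (p q m : ℕ) (hpq : p < q)
    (h : x ^ (q - p) = y * z) (d0 d1 d2 e0 e1 e2 j : ℕ)
    (hn : (e0 : ℤ) - p * e1 + q * e2 = (d0 : ℤ) - p * d1 + q * d2)
    (hc : ((d1 : ℤ) - d2) - ((e1 : ℤ) - e2) = m * j) :
    x ^ d0 * y ^ d1 * z ^ d2 = (x ^ (m * p) * y ^ m) ^ j * (x ^ e0 * y ^ e1 * z ^ e2) := by
  rw [mono_eq x y z p q hpq h d0 d1 d2 (m * p * j + e0) (m * j + e1) e2]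
  · rw [pow_add, pow_mul, pow_add, pow_mul, mul_pow]
    ring
  · push_cast
    linear_combination hn
  · push_cast
    linear_combination hc

/-- Arithmetic of monomials of the same weight with `d₀ < gcd(m, q-p)`. -/
theorem small_d0 (p q m : ℕ) (hpq : p < q) (hcop : Nat.Coprime p q)
    (d0 d1 d2 e0 e1 e2 : ℕ)
    (hn : (e0 : ℤ) - p * e1 + q * e2 = (d0 : ℤ) - p * d1 + q * d2)
    (hc : (m : ℤ) ∣ ((e1 : ℤ) - e2) - ((d1 : ℤ) - d2))
    (hd0 : d0 < Nat.gcd m (q - p)) (he0 : e0 < Nat.gcd m (q - p)) :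
    d0 = e0 ∧ ∃ z : ℤ, (e1 : ℤ) - d1 = (m / Nat.gcd m (q - p) * q : ℕ) * z ∧
      (e2 : ℤ) - d2 = (m / Nat.gcd m (q - p) * p : ℕ) * z ∧
      ((e1 : ℤ) - e2) - ((d1 : ℤ) - d2) = ((m : ℤ) * ((q - p) / Nat.gcd m (q - p) : ℕ)) * z := by
  set g := Nat.gcd m (q - p) with hg
  have hgpos : 0 < g := Nat.gcd_pos_of_pos_right _ (by omega)
  obtain ⟨a, ha⟩ : g ∣ m := Nat.gcd_dvd_left _ _
  obtain ⟨b, hb⟩ : g ∣ (q - p) := Nat.gcd_dvd_right _ _
  have hma : m / g = a := by rw [ha]; exact Nat.mul_div_cancel_left _ hgpos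
  have hqb : (q - p) / g = b := by rw [hb]; exact Nat.mul_div_cancel_left _ hgpos
  have hNb : (q : ℤ) - p = g * b := by
    rw [← Nat.cast_sub hpq.le, hb]; push_cast; rfl
  have hma' : (m : ℤ) = g * a := by rw [ha]; push_cast; rfl
  have hab : Nat.Coprime a b := by
    have := Nat.coprime_div_gcd_div_gcd (m := m) (n := q - p) (by rw [← hg]; exact hgpos)
    rw [← hg, hma, hqb] at this
    exact this
  have hcop' : Nat.Coprime p (q - p) := by
    rw [Nat.coprime_sub_self_right hpq.le]; exact hcop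
  -- step 1 : d0 = e0
  obtain ⟨w, hw⟩ := hc
  have h1 : (e0 : ℤ) - d0 = g * (p * (a * w) - b * ((e2 : ℤ) - d2)) := by
    have h2 : (p : ℤ) * (((e1 : ℤ) - e2) - ((d1 : ℤ) - d2)) - ((q : ℤ) - p) * ((e2 : ℤ) - d2) =
        (e0 : ℤ) - d0 := by linear_combination (-1 : ℤ) * hn
    rw [hw, hNb, hma'] at h2
    linear_combination (-1 : ℤ) * h2
  have h01 : (p : ℤ) * (a * w) - b * ((e2 : ℤ) - d2) = 0 := by
    have h3 : |((g : ℤ)) * (p * (a * w) - b * ((e2 : ℤ) - d2))| < g := by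
      rw [← h1, abs_lt]
      constructor
      · have : (d0 : ℤ) < g := by exact_mod_cast hd0
        have : (0 : ℤ) ≤ e0 := Int.natCast_nonneg _
        linarith
      · have : (e0 : ℤ) < g := by exact_mod_cast he0
        have : (0 : ℤ) ≤ d0 := Int.natCast_nonneg _
        linarith
    have hg' : (0 : ℤ) < g := by exact_mod_cast hgpos
    rw [abs_mul, abs_of_pos hg'] at h3
    have h4 : |(p : ℤ) * (a * w) - b * ((e2 : ℤ) - d2)| < 1 := by
      by_contra h5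
      push Not at h5
      nlinarith
    exact Int.abs_lt_one_iff.1 h4
  have h00 : (d0 : ℤ) = e0 := by
    rw [h01, mul_zero] at h1
    linarith
  refine ⟨by exact_mod_cast h00, ?_⟩
  -- step 2: (q-p) ∣ c' - c
  have h5 : ((q - p : ℕ) : ℤ) ∣ (p : ℤ) * (((e1 : ℤ) - e2) - ((d1 : ℤ) - d2)) := by
    refine ⟨(e2 : ℤ) - d2, ?_⟩
    rw [Nat.cast_sub hpq.le]
    linear_combination (-1 : ℤ) * hn - h00
  have h6 : ((q - p : ℕ) : ℤ) ∣ (((e1 : ℤ) - e2) - ((d1 : ℤ) - d2)) :=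
    (Nat.isCoprime_iff_coprime.2 hcop'.symm).dvd_of_dvd_mul_left h5
  obtain ⟨y, hy⟩ := h6
  have hgne : (g : ℤ) ≠ 0 := by exact_mod_cast hgpos.ne'
  have h7 : (a : ℤ) ∣ b * y := by
    refine ⟨w, ?_⟩
    have h8 : (g : ℤ) * (b * y) = g * (a * w) := by
      rw [Nat.cast_sub hpq.le, hNb] at hy
      rw [hma'] at hw
      linear_combination hw - hy
    exact mul_left_cancel₀ hgne h8
  have h9 : (a : ℤ) ∣ y := (Nat.isCoprime_iff_coprime.2 hab).dvd_of_dvd_mul_left h7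
  obtain ⟨z, hz⟩ := h9
  have hpq' : (q : ℤ) - p ≠ 0 := by
    have : (p : ℤ) < q := by exact_mod_cast hpq
    linarith
  have h10 : (e2 : ℤ) - d2 = p * y := by
    have h11 : ((q : ℤ) - p) * ((e2 : ℤ) - d2) = ((q : ℤ) - p) * (p * y) := by
      rw [Nat.cast_sub hpq.le] at hy
      linear_combination hn + h00 + p * hy
    exact mul_left_cancel₀ hpq' h11
  rw [Nat.cast_sub hpq.le] at hy
  refine ⟨z, ?_, ?_, ?_⟩
  · rw [hma]
    push_cast
    linear_combination hy + h10 + q * hz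
  · rw [hma]
    push_cast
    linear_combination h10 + p * hz
  · rw [hqb, hy, hz, hNb, hma']
    ring

end K871.Mono
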