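import Groth.Agent.W4c2invhilbsl2.K871.HJBounds

/-!
The dichotomy for monomials of weight `(nᵢ, 0)`.
-/

set_option autoImplicit false
open W4c2invhilbsl2

namespace K871.Dich
open K871.HJArith K871.HJBounds

/-- A monomial of weight `(nᵢ, 0)` is divisible by `X₀^nᵢ` or by `X₁^eᵢ X₂^lᵢ`. -/
theorem dichotomy (p q m : ℕ) (hpq : p < q) (c : List ℤ) (hc : IsHJDigits p q m c)
    (hp : 0 < p) (hm : 0 < m) (i : ℕ) (hi : 1 ≤ i) (hir : i ≤ c.length)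
    (d0 d1 d2 : ℤ) (hd0 : 0 ≤ d0) (hd1 : 0 ≤ d1) (hd2 : 0 ≤ d2)
    (hn : d0 - p * d1 + q * d2 = nN p q m c i) (hdvd : (m : ℤ) ∣ d1 - d2) :
    nN p q m c i ≤ d0 ∨ (eE p q m c i ≤ d1 ∧ lL p q m c i ≤ d2) := by
  rcases le_or_gt (nN p q m c i) d0 with h | h
  · exact Or.inl h
  · refine Or.inr (key p q m hpq c hc hp hm i hi hir d1 d2 hd1 hd2 (by linarith) ?_ hdvd)
    obtain ⟨j, rfl⟩ : ∃ j, i = j + 1 := ⟨i - 1, by omega⟩
    have := nN_lt p q m hpq c hc j (by omega)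
    rw [Nat.add_sub_cancel]
    linarith

end K871.Dich
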