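import Groth.Agent.W4c2invhilbsl2.K871.HJBounds

/-!
Comparison of two monomials of the same weight modulo the ideals `idealL`.
-/

set_option autoImplicit false
open W4c2invhilbsl2

namespace K871.PairL
open K871.HJArith K871.HJBounds

variable {k : Type*} [CommRing k] {R : Type*} [CommRing R] (φ : k →+* R) (x y z : R) (s : k)
  (p q m : ℕ) (hpq : p < q) (c : List ℤ) (hc : IsHJDigits p q m c)
  (hp : 0 < p) (hm : 0 < m) (i : ℕ) (hi : 1 ≤ i) (hir : i ≤ c.length)
  (H1 : x ^ (nN p q m c (i - 1)).toNat = 0)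
  (H2 : y ^ (eE p q m c i).toNat * z ^ (lL p q m c i).toNat = φ s * x ^ (nN p q m c i).toNat)
  (H3 : ∀ u0 u1 u2 : ℕ, ¬ (u0 = 0 ∧ u1 = 0 ∧ u2 = 0) → (u0 : ℤ) - p * u1 + q * u2 = 0 →
    (m : ℤ) ∣ (u1 : ℤ) - u2 → x ^ u0 * y ^ u1 * z ^ u2 = 0)

include hpq hc hp hm hi hir H1 H2 H3

theorem pair_X0 (N : ℕ) : ∀ a b1 b2 : ℕ, b1 + b2 ≤ N → (a : ℤ) = q * b2 - p * b1 →
    (m : ℤ) ∣ (b1 : ℤ) - b2 → x ^ a = 0 ∨ ∃ t : k, y ^ b1 * z ^ b2 = φ t * x ^ a := by
  have hepos := eE_pos p q m hpq c hc hp hm i hi hir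
  have hlpos := lL_pos p q m hpq c hc hp hm i hi hir
  have hnpos := nN_pos p q m hpq c hc i hir
  have hee := eE_eq p q m c i
  have hnn : nN p q m c i = -(p : ℤ) * eE p q m c i + (q : ℤ) * lL p q m c i := rfl
  have hE' : ((eE p q m c i).toNat : ℤ) = eE p q m c i := Int.toNat_of_nonneg hepos.le
  have hL' : ((lL p q m c i).toNat : ℤ) = lL p q m c i := Int.toNat_of_nonneg hlpos.le
  have hn' : ((nN p q m c i).toNat : ℤ) = nN p q m c i := Int.toNat_of_nonneg hnpos.le
  set E := (eE p q m c i).toNat with hE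
  set L := (lL p q m c i).toNat with hL
  set n := (nN p q m c i).toNat with hn
  induction N with
  | zero =>
    intro a b1 b2 hN ha hdvd
    have h1 : b1 = 0 := by omega
    have h2 : b2 = 0 := by omega
    subst h1 h2
    have h0 : a = 0 := by
      have : (a : ℤ) = 0 := by simpa using ha
      exact_mod_cast this
    subst h0
    exact Or.inr ⟨1, by simp⟩
  | succ N ih =>
    intro a b1 b2 hN ha hdvd
    rcases Nat.eq_zero_or_pos a with ha0 | ha0
    · subst ha0
      by_cases hb : b1 = 0 ∧ b2 = 0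
      · obtain ⟨rfl, rfl⟩ := hb
        exact Or.inr ⟨1, by simp⟩
      · have h3 := H3 0 b1 b2 (fun h => hb ⟨h.2.1, h.2.2⟩) (by rw [Nat.cast_zero] at ha ⊢; linear_combination (-1 : ℤ) * ha) hdvd
        rw [pow_zero, one_mul] at h3
        exact Or.inr ⟨0, by rw [h3, map_zero, zero_mul]⟩
    · by_cases hbig : nN p q m c (i - 1) ≤ a
      · left
        exact pow_eq_zero_of_le (by omega) H1
      · push Not at hbig
        obtain ⟨hle1, hle2⟩ := key p q m hpq c hc hp hm i hi hir b1 b2 (Int.natCast_nonneg _)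
          (Int.natCast_nonneg _) (by rw [← ha]; exact_mod_cast ha0) (by rw [← ha]; exact hbig) hdvd
        have hle1' : E ≤ b1 := by omega
        have hle2' : L ≤ b2 := by omega
        obtain ⟨b1', rfl⟩ := Nat.exists_eq_add_of_le hle1'
        obtain ⟨b2', rfl⟩ := Nat.exists_eq_add_of_le hle2'
        have hEpos : 0 < E := by omega
        have hB : y ^ (E + b1') * z ^ (L + b2') = φ s * x ^ n * (y ^ b1' * z ^ b2') := by
          rw [← H2, pow_add, pow_add]
          ring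
        have hdvd' : (m : ℤ) ∣ (b1' : ℤ) - b2' := by
          obtain ⟨w, hw⟩ := hdvd
          refine ⟨w - hjP c i, ?_⟩
          push_cast at hw
          rw [hE', hL', hee] at hw
          linear_combination hw
        have ha' : (a : ℤ) - n = q * b2' - p * b1' := by
          rw [hn', hnn, ha]
          push_cast
          rw [hE', hL']
          ring
        by_cases hcmp : n ≤ a
        · obtain ⟨a', rfl⟩ := Nat.exists_eq_add_of_le hcmp
          rcases ih a' b1' b2' (by omega) (by rw [← ha']; push_cast; ring) hdvd' with h | ⟨t, ht⟩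
          · left
            rw [pow_add, h, mul_zero]
          · right
            refine ⟨s * t, ?_⟩
            rw [hB, ht, map_mul, pow_add]
            ring
        · push Not at hcmp
          right
          refine ⟨0, ?_⟩
          have h3 := H3 (n - a) b1' b2' (fun h => by omega)
            (by rw [Nat.cast_sub hcmp.le]; linear_combination (-1 : ℤ) * ha') hdvd'
          have h4 : n = a + (n - a) := by omega
          rw [hB, h4, pow_add, map_zero, zero_mul]
          calc φ s * (x ^ a * x ^ (n - a)) * (y ^ b1' * z ^ b2')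
              = φ s * x ^ a * (x ^ (n - a) * y ^ b1' * z ^ b2') := by ring
            _ = 0 := by rw [h3, mul_zero]

theorem pair_aux (d0 d1 d2 e0 e1 e2 : ℕ) (h0 : e0 ≤ d0)
    (hn : (d0 : ℤ) - p * d1 + q * d2 = (e0 : ℤ) - p * e1 + q * e2)
    (hdvd : (m : ℤ) ∣ ((e2 : ℤ) - e1) - ((d2 : ℤ) - d1)) :
    ∃ t : k, x ^ d0 * y ^ d1 * z ^ d2 = φ t * (x ^ e0 * y ^ e1 * z ^ e2) ∨
      x ^ e0 * y ^ e1 * z ^ e2 = φ t * (x ^ d0 * y ^ d1 * z ^ d2) := by
  have hpq' : (p : ℤ) < q := by exact_mod_cast hpq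
  have hp' : (0 : ℤ) < p := by exact_mod_cast hp
  obtain ⟨a, rfl⟩ := Nat.exists_eq_add_of_le h0
  -- divisibility case
  have hdiv : e1 ≤ d1 → e2 ≤ d2 →
      ∃ t : k, x ^ (e0 + a) * y ^ d1 * z ^ d2 = φ t * (x ^ e0 * y ^ e1 * z ^ e2) ∨
      x ^ e0 * y ^ e1 * z ^ e2 = φ t * (x ^ (e0 + a) * y ^ d1 * z ^ d2) := by
    intro h1 h2
    obtain ⟨b1, rfl⟩ := Nat.exists_eq_add_of_le h1
    obtain ⟨b2, rfl⟩ := Nat.exists_eq_add_of_le h2
    by_cases hall : a = 0 ∧ b1 = 0 ∧ b2 = 0
    · obtain ⟨rfl, rfl, rfl⟩ := hall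
      exact ⟨1, Or.inl (by simp)⟩
    · have h3 := H3 a b1 b2 hall (by push_cast at hn; linear_combination hn)
        (by
          obtain ⟨w, hw⟩ := hdvd
          refine ⟨w, ?_⟩
          push_cast at hw
          linear_combination hw)
      refine ⟨0, Or.inl ?_⟩
      rw [map_zero, zero_mul]
      calc x ^ (e0 + a) * y ^ (e1 + b1) * z ^ (e2 + b2)
          = x ^ e0 * y ^ e1 * z ^ e2 * (x ^ a * y ^ b1 * z ^ b2) := by
            rw [pow_add, pow_add, pow_add]; ring
        _ = 0 := by rw [h3, mul_zero]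
  rcases le_total d1 e1 with h1 | h1
  · rcases le_total d2 e2 with h2 | h2
    · obtain ⟨b1, rfl⟩ := Nat.exists_eq_add_of_le h1
      obtain ⟨b2, rfl⟩ := Nat.exists_eq_add_of_le h2
      rcases pair_X0 φ x y z s p q m hpq c hc hp hm i hi hir H1 H2 H3 (b1 + b2) a b1 b2 le_rfl
        (by push_cast at hn; linear_combination hn)
        (by
          obtain ⟨w, hw⟩ := hdvd
          refine ⟨-w, ?_⟩
          push_cast at hw
          linear_combination (-1 : ℤ) * hw) with h | ⟨t, ht⟩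
      · refine ⟨0, Or.inl ?_⟩
        rw [pow_add, h, mul_zero, zero_mul, zero_mul, map_zero, zero_mul]
      · refine ⟨t, Or.inr ?_⟩
        calc x ^ e0 * y ^ (d1 + b1) * z ^ (d2 + b2)
            = x ^ e0 * y ^ d1 * z ^ d2 * (y ^ b1 * z ^ b2) := by
              rw [pow_add, pow_add]; ring
          _ = φ t * (x ^ (e0 + a) * y ^ d1 * z ^ d2) := by
              rw [ht, pow_add]; ring
    · -- d1 ≤ e1, e2 ≤ d2 : everything equal
      refine hdiv ?_ h2
      have h3 : (e2 : ℤ) ≤ d2 := by exact_mod_cast h2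
      have h4 : (0 : ℤ) ≤ a := Int.natCast_nonneg _
      by_contra h5
      push Not at h5
      have h6 : (d1 : ℤ) < e1 := by exact_mod_cast h5
      push_cast at hn
      nlinarith
  · rcases le_or_gt e2 d2 with h2 | h2
    · exact hdiv h1 h2
    · -- e1 ≤ d1, d2 < e2 : a ≥ q
      refine ⟨0, Or.inl ?_⟩
      have h3 : (d2 : ℤ) + 1 ≤ e2 := by exact_mod_cast h2
      have h4 : (e1 : ℤ) ≤ d1 := by exact_mod_cast h1
      have h5 : (q : ℤ) ≤ a := by
        push_cast at hn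
        nlinarith
      have h6 := nN_le p q m hpq c hc (i - 1) (by omega)
      have h7 : x ^ (e0 + a) = 0 := pow_eq_zero_of_le (by omega) H1
      rw [h7, zero_mul, zero_mul, map_zero, zero_mul]

theorem pair (d0 d1 d2 e0 e1 e2 : ℕ)
    (hn : (d0 : ℤ) - p * d1 + q * d2 = (e0 : ℤ) - p * e1 + q * e2)
    (hdvd : (m : ℤ) ∣ ((e2 : ℤ) - e1) - ((d2 : ℤ) - d1)) :
    ∃ t : k, x ^ d0 * y ^ d1 * z ^ d2 = φ t * (x ^ e0 * y ^ e1 * z ^ e2) ∨
      x ^ e0 * y ^ e1 * z ^ e2 = φ t * (x ^ d0 * y ^ d1 * z ^ d2) := by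
  rcases le_total e0 d0 with h0 | h0
  · exact pair_aux φ x y z s p q m hpq c hc hp hm i hi hir H1 H2 H3 d0 d1 d2 e0 e1 e2 h0 hn hdvd
  · obtain ⟨t, ht⟩ := pair_aux φ x y z s p q m hpq c hc hp hm i hi hir H1 H2 H3
      e0 e1 e2 d0 d1 d2 h0 hn.symm (by
        obtain ⟨w, hw⟩ := hdvd
        exact ⟨-w, by linear_combination (-1 : ℤ) * hw⟩)
    exact ⟨t, ht.symm⟩

end K871.PairL
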