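import Groth.Agent.W4c2invhilbsl2.K871.HJArith

/-!
Growth of `hjP`, the unimodularity relation between `hjP` and `hjQ`, and the best-approximation
bounds for `t x mod b`, together with their consequences for monomials.
-/

set_option autoImplicit false
open W4c2invhilbsl2

namespace K871.HJBounds
open K871.HJArith

/-- `Pᵢ Qᵢ₊₁ - Pᵢ₊₁ Qᵢ = 1`. -/
theorem det_eq (c : List ℤ) (i : ℕ) :
    hjP c i * hjQ c (i + 1) - hjP c (i + 1) * hjQ c i = 1 := by
  induction i with
  | zero => simp [hjP, hjQ]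
  | succ i ih =>
    rw [show i + 1 + 1 = i + 2 from rfl, hjP, hjQ]
    linear_combination ih

theorem hjP_mono (c : List ℤ) (hc : ∀ x ∈ c, (2 : ℤ) ≤ x) (i : ℕ) (hi : i ≤ c.length) :
    0 ≤ hjP c i ∧ hjP c i < hjP c (i + 1) := by
  induction i with
  | zero => simp [hjP]
  | succ i ih =>
    obtain ⟨h1, h2⟩ := ih (by omega)
    refine ⟨by linarith, ?_⟩
    have hi' : i < c.length := by omega
    have h3 : (2 : ℤ) ≤ c.getD i 0 := by
      rw [List.getD_eq_getElem c 0 hi']
      exact hc _ (List.getElem_mem hi')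
    rw [show i + 1 + 1 = i + 2 from rfl, hjP]
    nlinarith

theorem hjP_pos (c : List ℤ) (hc : ∀ x ∈ c, (2 : ℤ) ≤ x) (i : ℕ) (hi : 1 ≤ i)
    (hir : i ≤ c.length + 1) : 0 < hjP c i := by
  obtain ⟨j, rfl⟩ : ∃ j, i = j + 1 := ⟨i - 1, by omega⟩
  have := hjP_mono c hc j (by omega)
  linarith [this.1, this.2]

section
variable (p q m : ℕ) (hpq : p < q) (c : List ℤ) (hc : IsHJDigits p q m c)
include hpq hc

theorem uU_antitone (i j : ℕ) (hij : i ≤ j) (hj : j ≤ c.length + 1) :
    uU p q m c j ≤ uU p q m c i := by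
  induction j, hij using Nat.le_induction with
  | base => exact le_rfl
  | succ j hij ih =>
    have := uU_lt p q m hpq c hc j (by omega)
    linarith [ih (by omega)]

theorem uU_lt_bB (i : ℕ) (hi : 1 ≤ i) (hir : i ≤ c.length + 1) :
    uU p q m c i < bB p q m := by
  have h1 := uU_antitone p q m hpq c hc 1 i hi hir
  have h2 := uU_lt p q m hpq c hc 0 (by omega)
  rw [uU_zero] at h2
  linarith

/-- Lower best-approximation bound. -/
theorem lower_bound (i : ℕ) (hi : 1 ≤ i) (hir : i + 1 ≤ c.length) (x : ℤ) (hx0 : 0 < x)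
    (hx : x < hjP c (i + 1)) :
    uU p q m c i ≤ ((tT p q m : ℤ) * x) % (bB p q m : ℤ) := by
  have hb : (0 : ℤ) < bB p q m := by exact_mod_cast bB_pos p q m hpq
  set y := ((tT p q m : ℤ) * x) / (bB p q m : ℤ) with hy
  set ρ := ((tT p q m : ℤ) * x) % (bB p q m : ℤ) with hρ
  have h1 : ρ + (bB p q m : ℤ) * y = (tT p q m : ℤ) * x := Int.emod_add_mul_ediv _ _
  have h2 : 0 ≤ ρ := Int.emod_nonneg _ hb.ne'
  have hdet := det_eq c i
  have hmono := hjP_mono c hc.1 i (by omega)
  have hPpos : 0 < hjP c i := hjP_pos c hc.1 i hi (by omega)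
  have hut := uU_lt p q m hpq c hc i (by omega)
  have hup := uU_pos p q m hpq c hc (i + 1) (by omega)
  set A := x * hjQ c (i + 1) - y * hjP c (i + 1) with hA
  set B := y * hjP c i - x * hjQ c i with hB
  have hx' : x = A * hjP c i + B * hjP c (i + 1) := by
    rw [hA, hB]
    linear_combination (-x) * hdet
  have hρ' : ρ = A * uU p q m c i + B * uU p q m c (i + 1) := by
    have h3 : ρ = (tT p q m : ℤ) * x - (bB p q m : ℤ) * y := by linarith
    rw [h3, hA, hB]
    unfold uU
    linear_combination (-((tT p q m : ℤ) * x) + (bB p q m : ℤ) * y) * hdet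
  clear_value A B
  rcases le_or_gt A 0 with hA0 | hA0
  · exfalso
    have hB1 : 0 < B := by
      by_contra hB1
      push Not at hB1
      have : A * hjP c i ≤ 0 := mul_nonpos_of_nonpos_of_nonneg hA0 hPpos.le
      have : B * hjP c (i + 1) ≤ 0 := mul_nonpos_of_nonpos_of_nonneg hB1 (by linarith)
      linarith
    have hAB : A + B ≤ 0 := by
      by_contra h
      push Not at h
      -- A ≥ 1 - B
      have h5 : 1 - B ≤ A := by linarith
      have h6 : (1 - B) * hjP c i ≤ A * hjP c i := mul_le_mul_of_nonneg_right h5 hPpos.le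
      have h7 : (B - 1) * hjP c i ≤ (B - 1) * hjP c (i + 1) :=
        mul_le_mul_of_nonneg_left hmono.2.le (by linarith)
      nlinarith
    have h8 : A * uU p q m c i ≤ (-B) * uU p q m c i :=
      mul_le_mul_of_nonneg_right (by linarith) (by linarith)
    nlinarith
  · rcases le_or_gt 0 B with hB0 | hB0
    · nlinarith [mul_nonneg hB0 hup.le, mul_nonneg (show 0 ≤ A - 1 by linarith) (show 0 ≤ uU p q m c i by linarith)]
    · have hAB : 1 ≤ A + B := by
        by_contra h
        push Not at h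
        have h5 : A ≤ -B := by linarith
        have h6 : A * hjP c i ≤ (-B) * hjP c i := mul_le_mul_of_nonneg_right h5 hPpos.le
        have h7 : (-B) * hjP c i ≤ (-B) * hjP c (i + 1) :=
          mul_le_mul_of_nonneg_left hmono.2.le (by linarith)
        nlinarith
      have h8 : B * uU p q m c i ≤ B * uU p q m c (i + 1) := by nlinarith
      have h9 : 1 * uU p q m c i ≤ (A + B) * uU p q m c i :=
        mul_le_mul_of_nonneg_right hAB (by linarith)
      nlinarith

/-- Upper best-approximation bound. -/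
theorem upper_bound (i : ℕ) (hi : 1 ≤ i) (hir : i + 1 ≤ c.length) (x : ℤ) (hx0 : 0 < x)
    (hx : x < hjP c (i + 1)) :
    ((tT p q m : ℤ) * x) % (bB p q m : ℤ) ≤
      (bB p q m : ℤ) + uU p q m c (i + 1) - uU p q m c i := by
  have hb : (0 : ℤ) < bB p q m := by exact_mod_cast bB_pos p q m hpq
  have hl := lower_bound p q m hpq c hc i hi hir x hx0 hx
  have hl' := lower_bound p q m hpq c hc i hi hir (hjP c (i + 1) - x) (by linarith) (by linarith)
  have hut := uU_lt p q m hpq c hc i (by omega)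
  have hup := uU_pos p q m hpq c hc (i + 1) (by omega)
  have hlt : ((tT p q m : ℤ) * x) % (bB p q m : ℤ) < bB p q m := Int.emod_lt_of_pos _ hb
  have key : ((tT p q m : ℤ) * (hjP c (i + 1) - x)) % (bB p q m : ℤ) =
      uU p q m c (i + 1) - ((tT p q m : ℤ) * x) % (bB p q m : ℤ) + bB p q m := by
    have h1 := Int.emod_add_mul_ediv ((tT p q m : ℤ) * x) (bB p q m : ℤ)
    have h2 : (tT p q m : ℤ) * (hjP c (i + 1) - x) =
        (uU p q m c (i + 1) - ((tT p q m : ℤ) * x) % (bB p q m : ℤ) + bB p q m) +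
          (bB p q m : ℤ) * (hjQ c (i + 1) - ((tT p q m : ℤ) * x) / (bB p q m : ℤ) - 1) := by
      unfold uU
      linear_combination h1
    rw [h2, Int.add_mul_emod_self_left]
    refine Int.emod_eq_of_lt ?_ ?_
    · linarith
    · linarith
  rw [key] at hl'
  linarith

/-- `Nlᵢ = nᵢ + p m Pᵢ`, so `lᵢ > 0`. -/
theorem lL_pos (hp : 0 < p) (hm : 0 < m) (i : ℕ) (hi : 1 ≤ i) (hir : i ≤ c.length) :
    0 < lL p q m c i := by
  have hN : (0 : ℤ) < (q : ℤ) - p := by
    have : (p : ℤ) < q := by exact_mod_cast hpq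
    linarith
  have h1 := nN_eq' p q m hpq c i
  have h2 := nN_eq p q m hpq c i
  have h3 := uU_pos p q m hpq c hc i hir
  have hg : (0 : ℤ) < gcdK p q m := by exact_mod_cast gcdK_pos p q m hpq
  have hP := hjP_pos c hc.1 i hi (by omega)
  have h4 : 0 < nN p q m c i := by rw [h2]; positivity
  have h5 : (0 : ℤ) < p * m * hjP c i := by positivity
  by_contra h6
  push Not at h6
  have : ((q : ℤ) - p) * lL p q m c i ≤ 0 := mul_nonpos_of_nonneg_of_nonpos hN.le h6
  linarith

theorem eE_pos (hp : 0 < p) (hm : 0 < m) (i : ℕ) (hi : 1 ≤ i) (hir : i ≤ c.length) :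
    0 < eE p q m c i := by
  have hP := hjP_pos c hc.1 i hi (by omega)
  have h1 := lL_pos p q m hpq c hc hp hm i hi hir
  rw [eE_eq]
  positivity

theorem nN_pos (i : ℕ) (hir : i ≤ c.length) : 0 < nN p q m c i := by
  have h2 := nN_eq p q m hpq c i
  have h3 := uU_pos p q m hpq c hc i hir
  have hg : (0 : ℤ) < gcdK p q m := by exact_mod_cast gcdK_pos p q m hpq
  rw [h2]; positivity

theorem nN_lt (i : ℕ) (hir : i ≤ c.length) : nN p q m c (i + 1) < nN p q m c i := by
  have hg : (0 : ℤ) < gcdK p q m := by exact_mod_cast gcdK_pos p q m hpq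
  rw [nN_eq p q m hpq c i, nN_eq p q m hpq c (i + 1)]
  exact mul_lt_mul_of_pos_left (uU_lt p q m hpq c hc i hir) hg

theorem nN_le (i : ℕ) (hir : i ≤ c.length + 1) : nN p q m c i ≤ (q : ℤ) - p := by
  have hg : (0 : ℤ) < gcdK p q m := by exact_mod_cast gcdK_pos p q m hpq
  rw [nN_eq p q m hpq c i, ← gcdK_mul_bB_int p q m hpq, ← uU_zero p q m c]
  exact mul_le_mul_of_nonneg_left (uU_antitone p q m hpq c hc 0 i (by omega) hir) hg.le

/-- The key arithmetic fact: if `0 < a = q b₂ - p b₁ < nᵢ₋₁` and `m ∣ b₁ - b₂` then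
`eᵢ ≤ b₁` and `lᵢ ≤ b₂`. -/
theorem key (hp : 0 < p) (hm : 0 < m) (i : ℕ) (hi : 1 ≤ i) (hir : i ≤ c.length)
    (b1 b2 : ℤ) (hb1 : 0 ≤ b1) (hb2 : 0 ≤ b2)
    (ha0 : 0 < (q : ℤ) * b2 - p * b1) (ha : (q : ℤ) * b2 - p * b1 < nN p q m c (i - 1))
    (hdvd : (m : ℤ) ∣ b1 - b2) :
    eE p q m c i ≤ b1 ∧ lL p q m c i ≤ b2 := by
  obtain ⟨x, hx⟩ := hdvd
  have hm' : (0 : ℤ) < m := by exact_mod_cast hm
  have hp' : (0 : ℤ) < p := by exact_mod_cast hp
  have hpq' : (p : ℤ) < q := by exact_mod_cast hpq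
  have hN : (0 : ℤ) < (q : ℤ) - p := by linarith
  have hg : (0 : ℤ) < gcdK p q m := by exact_mod_cast gcdK_pos p q m hpq
  have hnle := nN_le p q m hpq c hc (i - 1) (by omega)
  have hb : (0 : ℤ) < bB p q m := by exact_mod_cast bB_pos p q m hpq
  -- a = N b2 - p m x
  have ha' : (q : ℤ) * b2 - p * b1 = ((q : ℤ) - p) * b2 - p * m * x := by
    have : b1 = b2 + m * x := by linarith
    rw [this]; ring
  have hb2' : 0 < b2 := by
    by_contra h
    push Not at h
    have h0 : b2 = 0 := le_antisymm h hb2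
    rw [h0] at ha0
    nlinarith
  have hx0 : 0 < x := by
    by_contra h
    push Not at h
    have h1 : (p : ℤ) * m * x ≤ 0 := mul_nonpos_of_nonneg_of_nonpos (by positivity) h
    have h2 : ((q : ℤ) - p) * 1 ≤ ((q : ℤ) - p) * b2 := mul_le_mul_of_nonneg_left hb2' hN.le
    linarith
  -- a = g * (t x mod b)
  have hgt := gcdK_mul_tT_int p q m hpq
  have hgb := gcdK_mul_bB_int p q m hpq
  set a' : ℤ := (tT p q m : ℤ) * x + bB p q m * (b2 - (alpha p q m + 1) * x) with ha'def
  have haa' : (q : ℤ) * b2 - p * b1 = gcdK p q m * a' := by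
    rw [ha', ha'def]
    linear_combination (-x) * hgt - (b2 - (alpha p q m + 1) * x) * hgb
  have ha'0 : 0 < a' := by
    rw [haa'] at ha0
    exact (mul_pos_iff_of_pos_left hg).1 ha0
  have ha'lt : a' < uU p q m c (i - 1) := by
    rw [haa', nN_eq p q m hpq c (i - 1)] at ha
    exact lt_of_mul_lt_mul_left ha hg.le
  have hub : uU p q m c (i - 1) ≤ bB p q m := by
    rw [← uU_zero p q m c]
    exact uU_antitone p q m hpq c hc 0 (i - 1) (by omega) (by omega)
  have hmod : ((tT p q m : ℤ) * x) % (bB p q m : ℤ) = a' := by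
    have h1 : (tT p q m : ℤ) * x = a' + bB p q m * (-(b2 - (alpha p q m + 1) * x)) := by
      rw [ha'def]; ring
    rw [h1, Int.add_mul_emod_self_left]
    exact Int.emod_eq_of_lt ha'0.le (by linarith)
  have hxP : hjP c i ≤ x := by
    by_contra h
    push Not at h
    obtain ⟨j, rfl⟩ : ∃ j, i = j + 1 := ⟨i - 1, by omega⟩
    rcases Nat.eq_zero_or_pos j with hj | hj
    · subst hj
      rw [Nat.zero_add, hjP] at h
      linarith
    · have h2 := lower_bound p q m hpq c hc j hj hir x hx0 h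
      rw [hmod] at h2
      rw [Nat.add_sub_cancel] at ha'lt
      linarith
  have hnle' : nN p q m c i < (q : ℤ) - p := by
    obtain ⟨j, rfl⟩ : ∃ j, i = j + 1 := ⟨i - 1, by omega⟩
    have := nN_lt p q m hpq c hc j (by omega)
    have := nN_le p q m hpq c hc j (by omega)
    linarith
  have hlL : lL p q m c i ≤ b2 := by
    have h1 := nN_eq' p q m hpq c i
    have h2 : (p : ℤ) * m * hjP c i ≤ p * m * x := mul_le_mul_of_nonneg_left hxP (by positivity)
    have h3 : ((q : ℤ) - p) * (lL p q m c i - 1) < ((q : ℤ) - p) * b2 := by linarith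
    have h4 := lt_of_mul_lt_mul_left h3 hN.le
    linarith
  refine ⟨?_, hlL⟩
  rw [eE_eq]
  have h5 : (m : ℤ) * hjP c i ≤ m * x := mul_le_mul_of_nonneg_left hxP hm'.le
  linarith

end

end K871.HJBounds
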