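import Groth.Prelude.Def_W4c2invhilbsl2
import Mathlib.RingTheory.MvPolynomial.WeightedHomogeneous
import Mathlib.Tactic

/-!
Generators of weight pieces over the weight-zero subring, and one-dimensionality of weight pieces
of quotients: reductions to monomials.
-/

set_option autoImplicit false
open MvPolynomial

namespace K871.Gen

variable {σ k M : Type*}

section gen
variable [CommRing k] [AddCommGroup M] (w : σ → M)

/-- The weight-`ν` piece lies in any `k`-submodule containing the monomials of weight `ν`. -/
theorem weightPiece_le (ν : M) (S : Submodule k (MvPolynomial σ k))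
    (h : ∀ d : σ →₀ ℕ, Finsupp.weight w d = ν → monomial d (1 : k) ∈ S) :
    weightedHomogeneousSubmodule k w ν ≤ S := by
  intro f hf
  rw [← support_sum_monomial_coeff f]
  refine S.sum_mem fun d hd => ?_
  have h1 : (monomial d (coeff d f) : MvPolynomial σ k) = coeff d f • monomial d (1 : k) := by
    simp [smul_monomial]
  rw [h1]
  exact S.smul_mem _ (h d (hf (mem_support_iff.1 hd)))

variable {ι : Type*} (s : Finset ι) (g : ι → MvPolynomial σ k) (P : Ideal (MvPolynomial σ k))

/-- Polynomials that are, modulo `P`, combinations of the `g j` (`j ∈ s`) with coefficients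
homogeneous of weight zero. -/
def genSub : Submodule k (MvPolynomial σ k) where
  carrier := {f | ∃ a : ι → MvPolynomial σ k,
    (∀ j, a j ∈ weightedHomogeneousSubmodule k w 0) ∧ f - ∑ j ∈ s, a j * g j ∈ P}
  zero_mem' := ⟨0, fun _ => Submodule.zero_mem _, by simp⟩
  add_mem' := by
    rintro f f' ⟨a, ha, h⟩ ⟨a', ha', h'⟩
    refine ⟨a + a', fun j => Submodule.add_mem _ (ha j) (ha' j), ?_⟩
    have : f + f' - ∑ j ∈ s, (a + a') j * g j =
        (f - ∑ j ∈ s, a j * g j) + (f' - ∑ j ∈ s, a' j * g j) := by
      simp only [Pi.add_apply, add_mul, Finset.sum_add_distrib]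
      ring
    rw [this]
    exact P.add_mem h h'
  smul_mem' := by
    rintro c f ⟨a, ha, h⟩
    refine ⟨c • a, fun j => Submodule.smul_mem _ _ (ha j), ?_⟩
    have : c • f - ∑ j ∈ s, (c • a) j * g j = C c * (f - ∑ j ∈ s, a j * g j) := by
      simp only [Pi.smul_apply, smul_eq_C_mul, mul_sub, Finset.mul_sum, mul_assoc]
    rw [this]
    exact P.mul_mem_left _ h

theorem mem_genSub_iff (f : MvPolynomial σ k) : f ∈ genSub w s g P ↔
    ∃ a : ι → MvPolynomial σ k,
      (∀ j, a j ∈ weightedHomogeneousSubmodule k w 0) ∧ f - ∑ j ∈ s, a j * g j ∈ P := Iff.rfl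

theorem mem_genSub_of_mem (f : MvPolynomial σ k) (hf : f ∈ P) : f ∈ genSub w s g P :=
  ⟨0, fun _ => Submodule.zero_mem _, by simpa using hf⟩

theorem mul_mem_genSub (h : MvPolynomial σ k) (hh : h ∈ weightedHomogeneousSubmodule k w 0)
    (j : ι) (hj : j ∈ s) : h * g j ∈ genSub w s g P := by
  classical
  refine ⟨fun i => if i = j then h else 0, fun i => ?_, ?_⟩
  · dsimp only
    split_ifs
    · exact hh
    · exact Submodule.zero_mem _
  · have : ∑ i ∈ s, (if i = j then h else 0) * g i = h * g j := by
      rw [Finset.sum_eq_single j]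
      · simp
      · intro i _ hij
        simp [hij]
      · intro hj'
        exact absurd hj hj'
    rw [this, sub_self]
    exact P.zero_mem

/-- A monomial divisible by a generator monomial of the same weight. -/
theorem monomial_mem_genSub (d e : σ →₀ ℕ) (hed : e ≤ d)
    (hw : Finsupp.weight w d = Finsupp.weight w e)
    (j : ι) (hj : j ∈ s) (hg : g j = monomial e 1) :
    (monomial d (1 : k)) ∈ genSub w s g P := by
  have h1 : (monomial d (1 : k) : MvPolynomial σ k) = monomial (d - e) 1 * g j := by
    rw [hg, monomial_mul, one_mul, tsub_add_cancel_of_le hed]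
  rw [h1]
  refine mul_mem_genSub w s g P _ ?_ j hj
  rw [mem_weightedHomogeneousSubmodule]
  refine isWeightedHomogeneous_monomial w _ _ ?_
  have h2 : Finsupp.weight w (d - e) + Finsupp.weight w e = Finsupp.weight w d := by
    rw [← map_add, tsub_add_cancel_of_le hed]
  rw [hw] at h2
  exact add_eq_right.1 h2

/-- The weight-zero monomials. -/
theorem monomial_sub_mem (d e : σ →₀ ℕ) (hed : e ≤ d)
    (hw : Finsupp.weight w d = Finsupp.weight w e) :
    (monomial (d - e) (1 : k)) ∈ weightedHomogeneousSubmodule k w 0 := by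
  rw [mem_weightedHomogeneousSubmodule]
  refine isWeightedHomogeneous_monomial w _ _ ?_
  have h2 : Finsupp.weight w (d - e) + Finsupp.weight w e = Finsupp.weight w d := by
    rw [← map_add, tsub_add_cancel_of_le hed]
  rw [hw] at h2
  exact add_eq_right.1 h2

end gen

section rank
variable {k : Type*} [Field k] {M : Type*} [AddCommGroup M] (w : σ → M)

/-- If any two monomials of weight `ν` have proportional images modulo `I` then the weight-`ν`
piece of the quotient has dimension at most one. -/
theorem rank_piece_le_one (I : Ideal (MvPolynomial σ k)) (ν : M)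
    (h : ∀ d e : σ →₀ ℕ, Finsupp.weight w d = ν → Finsupp.weight w e = ν →
      ∃ a : k, Ideal.Quotient.mk I (monomial d (1 : k)) = a • Ideal.Quotient.mk I (monomial e 1) ∨
        Ideal.Quotient.mk I (monomial e (1 : k)) = a • Ideal.Quotient.mk I (monomial d 1)) :
    Module.rank k (W4c2invhilbsl2.piece k w I ν) ≤ 1 := by
  rw [rank_submodule_le_one_iff']
  by_cases h0 : ∀ d : σ →₀ ℕ, Finsupp.weight w d = ν →
      Ideal.Quotient.mk I (monomial d (1 : k)) = 0
  · refine ⟨0, ?_⟩
    rintro _ ⟨f, hf, rfl⟩
    have h1 : weightedHomogeneousSubmodule k w ν ≤ I.restrictScalars k :=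
      weightPiece_le w ν _ fun d hd => Ideal.Quotient.eq_zero_iff_mem.1 (h0 d hd)
    have h2 : (Ideal.Quotient.mkₐ k I).toLinearMap f = 0 :=
      Ideal.Quotient.eq_zero_iff_mem.2 (h1 hf)
    rw [h2]
    exact Submodule.zero_mem _
  · push Not at h0
    obtain ⟨d₀, hd₀, hne⟩ := h0
    refine ⟨Ideal.Quotient.mk I (monomial d₀ (1 : k)), ?_⟩
    rintro _ ⟨f, hf, rfl⟩
    have h1 : weightedHomogeneousSubmodule k w ν ≤
        (Submodule.span k {Ideal.Quotient.mk I (monomial d₀ (1 : k))}).comap
          (Ideal.Quotient.mkₐ k I).toLinearMap := by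
      refine weightPiece_le w ν _ fun d hd => ?_
      rw [Submodule.mem_comap]
      change Ideal.Quotient.mk I (monomial d (1 : k)) ∈ _
      rw [Submodule.mem_span_singleton]
      obtain ⟨a, ha | ha⟩ := h d d₀ hd hd₀
      · exact ⟨a, ha.symm⟩
      · have ha0 : a ≠ 0 := by
          rintro rfl
          rw [zero_smul] at ha
          exact hne ha
        refine ⟨a⁻¹, ?_⟩
        rw [ha, smul_smul, inv_mul_cancel₀ ha0, one_smul]
    exact h1 hf

end rank

end K871.Gen
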