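import Groth.Prelude.Def_W4c2invhilbsl2HJ
import Mathlib.Tactic

/-!
Arithmetic of the Hirzebruch–Jung data of the prelude (`hjP`, `hjQ`, `eE`, `lL`, `nN`).
-/

set_option autoImplicit false
open W4c2invhilbsl2

namespace K871.HJArith

/-- A Hirzebruch–Jung continued fraction with digits `≥ 2` is `> 1`. -/
theorem one_lt_hjVal (c : List ℤ) (hc : ∀ x ∈ c, (2 : ℤ) ≤ x) (hne : c ≠ []) :
    1 < HJFrac.hjVal c := by
  induction c with
  | nil => exact absurd rfl hne
  | cons b l ih =>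
    have hb : (2 : ℚ) ≤ b := by exact_mod_cast hc b (by simp)
    rw [HJFrac.hjVal]
    by_cases hl : l = []
    · subst hl
      simp only [HJFrac.hjVal, inv_zero, sub_zero]
      linarith
    · have h1 := ih (fun x hx => hc x (by simp [hx])) hl
      have h2 : (HJFrac.hjVal l)⁻¹ < 1 := inv_lt_one_of_one_lt₀ h1
      linarith

/-- `uᵢ = t Pᵢ - b Qᵢ`. -/
def uU (p q m : ℕ) (c : List ℤ) (i : ℕ) : ℤ :=
  (tT p q m : ℤ) * hjP c i - (bB p q m : ℤ) * hjQ c i

theorem uU_zero (p q m : ℕ) (c : List ℤ) : uU p q m c 0 = bB p q m := by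
  simp [uU, hjP, hjQ]

theorem uU_one (p q m : ℕ) (c : List ℤ) : uU p q m c 1 = tT p q m := by
  simp [uU, hjP, hjQ]

theorem uU_succ_succ (p q m : ℕ) (c : List ℤ) (i : ℕ) :
    uU p q m c (i + 2) = c.getD i 0 * uU p q m c (i + 1) - uU p q m c i := by
  simp only [uU, hjP, hjQ]
  ring

section basic
variable (p q m : ℕ)

theorem gcdK_pos (hpq : p < q) : 0 < gcdK p q m :=
  Nat.gcd_pos_of_pos_right _ (by omega)

theorem gcdK_mul_bB : gcdK p q m * bB p q m = q - p :=
  Nat.mul_div_cancel' (Nat.gcd_dvd_right _ _)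

theorem gcdK_mul_bB_int (hpq : p < q) : (gcdK p q m : ℤ) * bB p q m = (q : ℤ) - p := by
  rw [← Nat.cast_sub hpq.le, ← gcdK_mul_bB p q m]
  push_cast
  rfl

theorem gcdK_dvd_mod : gcdK p q m ∣ m * p % (q - p) :=
  (Nat.dvd_mod_iff (Nat.gcd_dvd_right _ _)).2 (Dvd.dvd.mul_right (Nat.gcd_dvd_left _ _) _)

theorem gcdK_mul_tT : gcdK p q m * tT p q m = q - p - m * p % (q - p) :=
  Nat.mul_div_cancel' (Nat.dvd_sub (Nat.gcd_dvd_right _ _) (gcdK_dvd_mod p q m))

theorem gcdK_mul_tT_int (hpq : p < q) :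
    (gcdK p q m : ℤ) * tT p q m = ((q : ℤ) - p) * (alpha p q m + 1) - p * m := by
  have h1 : m * p % (q - p) < q - p := Nat.mod_lt _ (by omega)
  have h2 : (q - p) * (m * p / (q - p)) + m * p % (q - p) = m * p := Nat.div_add_mod _ _
  have h3 : ((gcdK p q m * tT p q m : ℕ) : ℤ) = ((q - p : ℕ) : ℤ) - ((m * p % (q - p) : ℕ) : ℤ) := by
    rw [gcdK_mul_tT, Nat.cast_sub h1.le]
  have h4 : (((q - p) * (m * p / (q - p)) + m * p % (q - p) : ℕ) : ℤ) = ((m * p : ℕ) : ℤ) := by
    rw [h2]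
  rw [Nat.cast_mul] at h3
  rw [h3]
  rw [Nat.cast_add, Nat.cast_mul, Nat.cast_mul m p] at h4
  unfold alpha
  rw [Nat.cast_sub hpq.le] at h4 ⊢
  linear_combination -h4

theorem nN_eq (hpq : p < q) (c : List ℤ) (i : ℕ) :
    nN p q m c i = (gcdK p q m : ℤ) * uU p q m c i := by
  have h1 := gcdK_mul_tT_int p q m hpq
  have h2 := gcdK_mul_bB_int p q m hpq
  unfold nN eE lL uU
  push_cast
  linear_combination (-hjP c i) * h1 + (hjQ c i) * h2

theorem nN_eq' (hpq : p < q) (c : List ℤ) (i : ℕ) :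
    nN p q m c i = ((q : ℤ) - p) * lL p q m c i - p * m * hjP c i := by
  unfold nN eE lL
  push_cast
  ring

theorem eE_eq (c : List ℤ) (i : ℕ) : eE p q m c i = lL p q m c i + m * hjP c i := by
  unfold eE lL
  push_cast
  ring

theorem bB_pos (hpq : p < q) : 0 < bB p q m := by
  have h1 := gcdK_mul_bB p q m
  rcases Nat.eq_zero_or_pos (bB p q m) with h | h
  · rw [h, Nat.mul_zero] at h1
    omega
  · exact h

theorem tT_pos (hpq : p < q) : 0 < tT p q m := by
  have h1 := gcdK_mul_tT p q m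
  have h2 : m * p % (q - p) < q - p := Nat.mod_lt _ (by omega)
  rcases Nat.eq_zero_or_pos (tT p q m) with h | h
  · rw [h, Nat.mul_zero] at h1
    omega
  · exact h

theorem coprime_sub (hpq : p < q) (hcop : Nat.Coprime p q) : Nat.Coprime p (q - p) := by
  rw [Nat.coprime_sub_self_right hpq.le]
  exact hcop

theorem tT_lt_bB (hpq : p < q) (hcop : Nat.Coprime p q) (hnt : ¬ (q - p ∣ m)) :
    tT p q m < bB p q m := by
  have h1 := gcdK_mul_tT p q m
  have h2 := gcdK_mul_bB p q m
  have h3 : 0 < m * p % (q - p) := by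
    rcases Nat.eq_zero_or_pos (m * p % (q - p)) with h | h
    · exact absurd ((coprime_sub p q hpq hcop).symm.dvd_of_dvd_mul_right (Nat.dvd_of_mod_eq_zero h)) hnt
    · exact h
  have h4 : gcdK p q m * tT p q m < gcdK p q m * bB p q m := by
    rw [h1, h2]
    omega
  exact Nat.lt_of_mul_lt_mul_left h4

theorem coprime_tT_bB (hpq : p < q) (hcop : Nat.Coprime p q) :
    IsCoprime (tT p q m : ℤ) (bB p q m : ℤ) := by
  -- Bezout: g = x m + y (q-p), and p coprime to q-p.
  have hg := gcdK_pos p q m hpq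
  have h1 := gcdK_mul_tT_int p q m hpq
  have h2 := gcdK_mul_bB_int p q m hpq
  rw [Int.isCoprime_iff_gcd_eq_one]
  -- d = gcd(t,b); g d | g t, g b, hence divides q-p and p m
  set d := Int.gcd (tT p q m : ℤ) (bB p q m : ℤ) with hd
  have hdt : (d : ℤ) ∣ (tT p q m : ℤ) := Int.gcd_dvd_left _ _
  have hdb : (d : ℤ) ∣ (bB p q m : ℤ) := Int.gcd_dvd_right _ _
  have h3 : ((gcdK p q m * d : ℕ) : ℤ) ∣ ((q : ℤ) - p) := by
    rw [← h2]
    push_cast
    exact mul_dvd_mul_left _ hdb
  have h4 : ((gcdK p q m * d : ℕ) : ℤ) ∣ (p : ℤ) * m := by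
    have h5 : (p : ℤ) * m = ((q : ℤ) - p) * (alpha p q m + 1) - (gcdK p q m : ℤ) * tT p q m := by
      rw [h1]
      ring
    rw [h5]
    refine dvd_sub (Dvd.dvd.mul_right h3 _) ?_
    push_cast
    exact mul_dvd_mul_left _ hdt
  have h3' : gcdK p q m * d ∣ q - p := by
    rw [← Nat.cast_sub hpq.le] at h3
    exact_mod_cast h3
  have h4' : gcdK p q m * d ∣ p * m := by exact_mod_cast h4
  have h5 : gcdK p q m * d ∣ m := by
    have h6 : Nat.Coprime (gcdK p q m * d) p :=
      (coprime_sub p q hpq hcop).symm.coprime_dvd_left h3'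
    exact h6.dvd_of_dvd_mul_left h4'
  have h7 : gcdK p q m * d ∣ gcdK p q m := Nat.dvd_gcd h5 h3'
  have h8 : gcdK p q m * d ∣ gcdK p q m * 1 := by simpa using h7
  exact Nat.dvd_one.1 (Nat.dvd_of_mul_dvd_mul_left hg h8)

end basic

section HJ
variable (p q m : ℕ) (hpq : p < q) (c : List ℤ) (hc : IsHJDigits p q m c)
include hpq hc

theorem ne_nil : c ≠ [] := by
  intro h
  have h1 := hc.2
  rw [h, HJFrac.hjVal] at h1
  have h2 : (0 : ℚ) < bB p q m := by exact_mod_cast bB_pos p q m hpq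
  have h3 : (0 : ℚ) < tT p q m := by exact_mod_cast tT_pos p q m hpq
  have := div_pos h2 h3
  linarith

theorem main_ind (i : ℕ) (hi : i < c.length) :
    HJFrac.hjVal (c.drop i) = (uU p q m c i : ℚ) / (uU p q m c (i + 1) : ℚ) ∧
      0 < uU p q m c (i + 1) ∧ uU p q m c (i + 1) < uU p q m c i := by
  induction i with
  | zero =>
    have h2 : (0 : ℚ) < bB p q m := by exact_mod_cast bB_pos p q m hpq
    have h3 : (0 : ℚ) < tT p q m := by exact_mod_cast tT_pos p q m hpq
    have h4 := one_lt_hjVal c hc.1 (ne_nil p q m hpq c hc)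
    have h5 := hc.2
    rw [List.drop_zero, uU_zero, uU_one]
    refine ⟨by rw [h5, Int.cast_natCast, Int.cast_natCast], by exact_mod_cast tT_pos p q m hpq, ?_⟩
    rw [h5, one_lt_div h3] at h4
    exact_mod_cast h4
  | succ i ih =>
    obtain ⟨h1, h2, h3⟩ := ih (by omega)
    have hi' : i < c.length := by omega
    have hdrop : c.drop i = c[i] :: c.drop (i + 1) := List.drop_eq_getElem_cons hi'
    have hgetD : c.getD i 0 = c[i] := List.getD_eq_getElem c 0 hi'
    have hne : c.drop (i + 1) ≠ [] := by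
      intro h
      have := congrArg List.length h
      simp at this
      omega
    have h4 := one_lt_hjVal (c.drop (i + 1)) (fun x hx => hc.1 x (List.mem_of_mem_drop hx)) hne
    rw [hdrop, HJFrac.hjVal] at h1
    have h2' : (0 : ℚ) < uU p q m c (i + 1) := by exact_mod_cast h2
    have h5 : (HJFrac.hjVal (c.drop (i + 1)))⁻¹ =
        (uU p q m c (i + 2) : ℚ) / (uU p q m c (i + 1) : ℚ) := by
      have : (HJFrac.hjVal (c.drop (i + 1)))⁻¹ = (c[i] : ℚ) -
          (uU p q m c i : ℚ) / (uU p q m c (i + 1) : ℚ) := by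
        rw [← h1]; ring
      rw [this, uU_succ_succ, hgetD]
      push_cast
      field_simp
    have h6 : HJFrac.hjVal (c.drop (i + 1)) =
        (uU p q m c (i + 1) : ℚ) / (uU p q m c (i + 2) : ℚ) := by
      rw [← inv_inv (HJFrac.hjVal (c.drop (i + 1))), h5, inv_div]
    have h7 : (0 : ℚ) < uU p q m c (i + 2) := by
      have h8 : (0 : ℚ) < (HJFrac.hjVal (c.drop (i + 1)))⁻¹ := inv_pos.2 (by linarith)
      rw [h5] at h8
      by_contra h9
      push Not at h9
      have := div_nonpos_of_nonpos_of_nonneg h9 h2'.le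
      linarith
    refine ⟨h6, by exact_mod_cast h7, ?_⟩
    rw [h6, one_lt_div h7] at h4
    exact_mod_cast h4

theorem uU_last : uU p q m c (c.length + 1) = 0 := by
  have hne := ne_nil p q m hpq c hc
  have hlen : 0 < c.length := List.length_pos_iff.2 hne
  obtain ⟨r, hr⟩ : ∃ r, c.length = r + 1 := ⟨c.length - 1, by omega⟩
  obtain ⟨h1, h2, h3⟩ := main_ind p q m hpq c hc r (by omega)
  have hi' : r < c.length := by omega
  have hdrop : c.drop r = c[r] :: c.drop (r + 1) := List.drop_eq_getElem_cons hi'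
  have hgetD : c.getD r 0 = c[r] := List.getD_eq_getElem c 0 hi'
  have hnil : c.drop (r + 1) = [] := by
    apply List.drop_eq_nil_of_le
    omega
  rw [hdrop, hnil, HJFrac.hjVal, HJFrac.hjVal, inv_zero, sub_zero] at h1
  have h2' : (0 : ℚ) < uU p q m c (r + 1) := by exact_mod_cast h2
  rw [eq_div_iff h2'.ne'] at h1
  rw [hr, show r + 1 + 1 = r + 2 from rfl, uU_succ_succ, hgetD]
  have h1' : c[r] * uU p q m c (r + 1) = uU p q m c r := by exact_mod_cast h1
  linarith

theorem uU_pos (i : ℕ) (hi : i ≤ c.length) : 0 < uU p q m c i := by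
  rcases Nat.eq_zero_or_pos i with h | h
  · subst h
    rw [uU_zero]
    exact_mod_cast bB_pos p q m hpq
  · obtain ⟨j, rfl⟩ : ∃ j, i = j + 1 := ⟨i - 1, by omega⟩
    exact (main_ind p q m hpq c hc j (by omega)).2.1

theorem uU_lt (i : ℕ) (hi : i ≤ c.length) : uU p q m c (i + 1) < uU p q m c i := by
  rcases Nat.lt_or_ge i c.length with h | h
  · exact (main_ind p q m hpq c hc i h).2.2
  · have : i = c.length := le_antisymm hi h
    rw [this, uU_last p q m hpq c hc]
    exact uU_pos p q m hpq c hc _ le_rfl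

theorem uU_length_dvd (j : ℕ) (hj : j ≤ c.length) :
    uU p q m c c.length ∣ uU p q m c (c.length - j) ∧
      uU p q m c c.length ∣ uU p q m c (c.length - j + 1) := by
  induction j with
  | zero =>
    rw [Nat.sub_zero, uU_last p q m hpq c hc]
    exact ⟨dvd_rfl, dvd_zero _⟩
  | succ j ih =>
    obtain ⟨h1, h2⟩ := ih (by omega)
    have h3 : c.length - j = (c.length - (j + 1)) + 1 := by omega
    rw [h3] at h1 h2
    refine ⟨?_, h1⟩
    have h4 := uU_succ_succ p q m c (c.length - (j + 1))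
    have h5 : uU p q m c (c.length - (j + 1)) = c.getD (c.length - (j + 1)) 0 *
        uU p q m c (c.length - (j + 1) + 1) - uU p q m c (c.length - (j + 1) + 1 + 1) := by
      rw [show c.length - (j + 1) + 1 + 1 = c.length - (j + 1) + 2 from rfl, h4]
      ring
    rw [h5]
    exact dvd_sub (Dvd.dvd.mul_left h1 _) h2

theorem uU_length (hcop : Nat.Coprime p q) : uU p q m c c.length = 1 := by
  have h1 := (uU_length_dvd p q m hpq c hc c.length le_rfl)
  rw [Nat.sub_self, uU_zero, Nat.zero_add, uU_one] at h1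
  have h2 := coprime_tT_bB p q m hpq hcop
  have h3 : IsUnit (uU p q m c c.length) := h2.isUnit_of_dvd' h1.2 h1.1
  have h4 := uU_pos p q m hpq c hc c.length le_rfl
  rcases Int.isUnit_iff.1 h3 with h | h
  · exact h
  · omega

end HJ

end K871.HJArith
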